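/-
Fixed-point-free elements in transitive finite groups.
-/
import Mathlib

set_option autoImplicit false

namespace CfsgLib.Derange

variable {G Ω : Type*} [Group G] [Finite G] [MulAction G Ω]

/-- In a transitive action of degree divisible by `p ^ k`, all orbits of a Sylow `p`-subgroup have size
divisible by `p ^ k`. -/
lemma pow_dvd_card_orbit [Fintype Ω] [MulAction.IsPretransitive G Ω] {p k : ℕ} [hp : Fact p.Prime]
    (hk : p ^ k ∣ Fintype.card Ω) (P : Sylow p G) (ω : Ω) :
    p ^ k ∣ Nat.card (MulAction.orbit (P : Subgroup G) ω) := by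
  set H := MulAction.stabilizer G ω
  set S := MulAction.stabilizer (P : Subgroup G) ω
  have h1 : Nat.card (MulAction.orbit (P : Subgroup G) ω) * Nat.card S = p ^ (Nat.card G).factorization p := by
    rw [← P.card_eq_multiplicity, Nat.card_coe_set_eq, ← MulAction.index_stabilizer, mul_comm]
    exact Subgroup.card_mul_index S
  have h2 : Fintype.card Ω * Nat.card H = Nat.card G := by
    rw [← Nat.card_eq_fintype_card, ← MulAction.index_stabilizer_of_transitive G ω, mul_comm]
    exact Subgroup.card_mul_index H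
  have h3 : Nat.card S ∣ Nat.card H :=
    Subgroup.card_dvd_of_injective
      ({ toFun := fun x => ⟨((x : (P : Subgroup G)) : G), x.2⟩
         map_one' := rfl
         map_mul' := fun _ _ => rfl } : S →* H)
      (fun x y h => by
        have := congrArg (fun z : H => (z : G)) h
        exact Subtype.ext (Subtype.ext this))
  obtain ⟨j, hj, hSj⟩ := (Nat.dvd_prime_pow hp.out).1 (⟨_, (mul_comm _ _).trans h1 |>.symm⟩ :
    Nat.card S ∣ p ^ (Nat.card G).factorization p)
  have h4 : p ^ (k + j) ∣ p ^ (Nat.card G).factorization p := by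
    rw [← (hp.out.pow_dvd_iff_dvd_ordProj Nat.card_pos.ne'), pow_add, ← h2]
    exact mul_dvd_mul hk (hSj ▸ h3)
  rw [← h1, hSj, pow_add] at h4
  exact Nat.dvd_of_mul_dvd_mul_right (pow_pos hp.out.pos j) h4

/-- A transitive group of degree `p ^ k`, `k ≥ 1`, contains a fixed-point-free element of order `p`. -/
theorem exists_derangement_prime_power [Fintype Ω] [FaithfulSMul G Ω] [MulAction.IsPretransitive G Ω]
    {p k : ℕ} (hp : p.Prime) (hk : 1 ≤ k) (hΩ : Fintype.card Ω = p ^ k) :
    ∃ g : G, orderOf g = p ∧ ∀ ω : Ω, g • ω ≠ ω := by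
  haveI := Fact.mk hp
  obtain ⟨P⟩ : Nonempty (Sylow p G) := inferInstance
  have hne : Nonempty Ω := Fintype.card_pos_iff.1 (hΩ ▸ pow_pos hp.pos k)
  have htr : ∀ a b : Ω, ∃ x : (P : Subgroup G), x • a = b := by
    intro a b
    have huniv : MulAction.orbit (P : Subgroup G) a = Set.univ := by
      refine Set.eq_of_subset_of_ncard_le (Set.subset_univ _) ?_ Set.finite_univ
      rw [Set.ncard_univ, Nat.card_eq_fintype_card, ← Nat.card_coe_set_eq, hΩ]
      exact Nat.le_of_dvd (Nat.card_pos_iff.2 ⟨⟨⟨a, MulAction.mem_orbit_self a⟩⟩, inferInstance⟩)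
        (pow_dvd_card_orbit hΩ.symm.dvd P a)
    exact MulAction.mem_orbit_iff.1 (huniv ▸ Set.mem_univ b)
  have hPne : Nontrivial (P : Subgroup G) := by
    by_contra hcon
    rw [not_nontrivial_iff_subsingleton] at hcon
    obtain ⟨a, b, hab⟩ := Fintype.exists_pair_of_one_lt_card
      (show 1 < Fintype.card Ω from hΩ ▸ Nat.one_lt_pow (by omega) hp.one_lt)
    obtain ⟨x, hx⟩ := htr a b
    rw [Subsingleton.elim x 1, one_smul] at hx
    exact hab hx
  haveI := P.2.center_nontrivial
  have hdvd : p ∣ Nat.card (Subgroup.center (P : Subgroup G)) := by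
    obtain ⟨m, hm, hm'⟩ := (P.2.to_subgroup (Subgroup.center (P : Subgroup G))).nontrivial_iff_card.1 this
    exact hm' ▸ dvd_pow_self p (by omega)
  obtain ⟨z, hz⟩ := exists_prime_orderOf_dvd_card' p hdvd
  refine ⟨((z : (P : Subgroup G)) : G), by rw [Subgroup.orderOf_coe, Subgroup.orderOf_coe, hz], fun ω hω => ?_⟩
  have h1 : ((z : (P : Subgroup G)) : G) = 1 := by
    refine eq_of_smul_eq_smul (α := Ω) fun b => ?_
    rw [one_smul]
    obtain ⟨x, rfl⟩ := htr ω b
    have hc : (x : G) * ((z : (P : Subgroup G)) : G) = ((z : (P : Subgroup G)) : G) * (x : G) :=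
      congrArg Subtype.val (Subgroup.mem_center_iff.1 z.2 x)
    change ((z : (P : Subgroup G)) : G) • (x : G) • ω = (x : G) • ω
    rw [← mul_smul, ← hc, mul_smul, hω]
  have h2 : orderOf ((z : (P : Subgroup G)) : G) = p := by
    rw [Subgroup.orderOf_coe, Subgroup.orderOf_coe, hz]
  rw [h1, orderOf_one] at h2
  exact hp.one_lt.ne h2

/-- If a group element fixes some point of an orbit of prime length, it fixes the whole orbit. -/
lemma fixes_orbit_of_card_prime {H : Type*} [Group H] [MulAction H Ω] [Finite Ω] {p : ℕ} (hp : p.Prime)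
    {ω ω' : Ω} (hω' : ω' ∈ MulAction.orbit H ω) (hcard : Nat.card (MulAction.orbit H ω) = p)
    {g : H} {k : ℕ} (hg : orderOf g = p ^ k) (hfix : g • ω = ω) : g • ω' = ω' := by
  by_contra hne
  have hsub : MulAction.orbit (Subgroup.zpowers g) ω' ⊆ MulAction.orbit H ω := by
    rintro x ⟨y, rfl⟩
    rw [← MulAction.orbit_eq_iff.2 hω']
    exact ⟨(y : H), rfl⟩
  obtain ⟨j, -, hj⟩ := (Nat.dvd_prime_pow hp).1
    (hg ▸ MulAction.period_dvd_orderOf g ω' : MulAction.period g ω' ∣ p ^ k)
  have hj0 : j ≠ 0 := by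
    rintro rfl
    exact hne (by simpa [hj] using MulAction.pow_period_smul g ω')
  have hcard' : Nat.card (MulAction.orbit (Subgroup.zpowers g) ω') = p ^ j := by
    haveI : Fintype (MulAction.orbit (Subgroup.zpowers g) ω') := Fintype.ofFinite _
    rw [← hj, Nat.card_eq_fintype_card, ← MulAction.minimalPeriod_eq_card, MulAction.period_eq_minimalPeriod]
  have heq : MulAction.orbit (Subgroup.zpowers g) ω' = MulAction.orbit H ω := by
    refine Set.eq_of_subset_of_ncard_le hsub ?_ (Set.toFinite _)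
    rw [← Nat.card_coe_set_eq, ← Nat.card_coe_set_eq, hcard', hcard]
    exact Nat.le_self_pow hj0 p
  obtain ⟨⟨y, hy⟩, hyω⟩ := heq ▸ MulAction.mem_orbit_self (M := H) ω
  obtain ⟨i, rfl⟩ := Subgroup.mem_zpowers_iff.1 hy
  apply hne
  have h1 : g ^ i • ω' = ω := hyω
  have h2 : g ^ i • (g • ω') = ω := by
    rw [← mul_smul, ← Commute.self_zpow g i |>.eq, mul_smul, h1, hfix]
  exact smul_left_cancel (g ^ i) (h2.trans h1.symm)

/-- A transitive group of degree `m * p`, `p` prime and `m ≤ p`, contains a fixed-point-free element of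
order `p`. -/
theorem exists_derangement_mul_prime [Fintype Ω] [FaithfulSMul G Ω] [MulAction.IsPretransitive G Ω]
    {p m : ℕ} (hp : p.Prime) (hm : 1 ≤ m) (hmp : m ≤ p) (hΩ : Fintype.card Ω = m * p) :
    ∃ g : G, orderOf g = p ∧ ∀ ω : Ω, g • ω ≠ ω := by
  classical
  rcases eq_or_lt_of_le hmp with rfl | hlt
  · exact exists_derangement_prime_power (k := 2) hp (by omega) (by rw [hΩ, sq])
  haveI := Fact.mk hp
  obtain ⟨P⟩ : Nonempty (Sylow p G) := inferInstance
  haveI : Fintype (P : Subgroup G) := Fintype.ofFinite _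
  have horb : ∀ ω : Ω, Nat.card (MulAction.orbit (P : Subgroup G) ω) = p := by
    intro ω
    have h1 : p ∣ Nat.card (MulAction.orbit (P : Subgroup G) ω) := by
      simpa using pow_dvd_card_orbit (k := 1) (p := p) (by rw [hΩ, pow_one]; exact dvd_mul_left p m) P ω
    obtain ⟨n, hn⟩ := P.2.card_orbit ω
    have h2 : Nat.card (MulAction.orbit (P : Subgroup G) ω) ≤ m * p := by
      rw [← hΩ, Nat.card_eq_fintype_card]
      exact set_fintype_card_le_univ _
    rw [hn] at h1 h2 ⊢
    rcases n with _ | _ | n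
    · simp at h1; exact absurd h1 hp.one_lt.ne'
    · simp
    · exfalso
      have : p ^ 2 ≤ p ^ (n + 1 + 1) := Nat.pow_le_pow_right hp.pos (by omega)
      have : m * p < p * p := Nat.mul_lt_mul_of_pos_right hlt hp.pos
      rw [← sq] at this
      omega
  have hex : ∃ g : (P : Subgroup G), ∀ ω : Ω, g • ω ≠ ω := by
    by_contra hcon
    push Not at hcon
    have hb := MulAction.sum_card_fixedBy_eq_card_orbits_mul_card_group (P : Subgroup G) Ω
    have horbits : p * Fintype.card (Quotient (MulAction.orbitRel (P : Subgroup G) Ω)) = p * m := by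
      rw [mul_comm p m, ← hΩ, ← Nat.card_eq_fintype_card (α := Ω),
        Nat.card_congr (MulAction.selfEquivSigmaOrbits (P : Subgroup G) Ω), Nat.card_sigma]
      rw [Finset.sum_congr rfl (fun x _ => horb _), Finset.sum_const, Finset.card_univ, smul_eq_mul, mul_comm]
    rw [Nat.eq_of_mul_eq_mul_left hp.pos horbits] at hb
    have hge : ∀ g : (P : Subgroup G), p ≤ Fintype.card (MulAction.fixedBy Ω g) := by
      intro g
      obtain ⟨ω, hω⟩ := hcon g
      obtain ⟨k, hk⟩ := IsPGroup.iff_orderOf.1 P.2 g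
      refine (horb ω).symm.le.trans ?_
      rw [Nat.card_eq_fintype_card]
      exact Set.card_le_card fun x hx => fixes_orbit_of_card_prime hp hx (horb ω) hk hω
    have hsum : Fintype.card (P : Subgroup G) * p ≤ m * Fintype.card (P : Subgroup G) := by
      rw [← hb]
      simpa using Finset.card_nsmul_le_sum Finset.univ _ p (fun g _ => hge g)
    have : 0 < Fintype.card (P : Subgroup G) := Fintype.card_pos
    nlinarith
  obtain ⟨g, hg⟩ := hex
  refine ⟨(g : G), ?_, fun ω => hg ω⟩
  rw [Subgroup.orderOf_coe]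
  obtain ⟨k, hk⟩ := IsPGroup.iff_orderOf.1 P.2 g
  refine orderOf_eq_prime ?_ (fun h => ?_)
  · refine Subtype.ext (eq_of_smul_eq_smul (α := Ω) fun b => ?_)
    change (g ^ p) • b = (1 : (P : Subgroup G)) • b
    rw [one_smul, MulAction.pow_smul_eq_iff_period_dvd]
    obtain ⟨j, -, hj⟩ := (Nat.dvd_prime_pow hp).1
      (hk ▸ MulAction.period_dvd_orderOf g b : MulAction.period g b ∣ p ^ k)
    rcases j with _ | j
    · simp [hj]
    have hle : p ^ (j + 1) ≤ p := by
      rw [← hj, MulAction.period_eq_minimalPeriod, MulAction.minimalPeriod_eq_card, ← Nat.card_eq_fintype_card]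
      refine (Nat.card_mono (Set.toFinite _) ?_).trans (horb b).le
      rintro x ⟨y, rfl⟩
      exact ⟨(y : (P : Subgroup G)), rfl⟩
    have : j = 0 := by
      by_contra hj0
      have h1 : p ^ 1 < p ^ (j + 1) := Nat.pow_lt_pow_right hp.one_lt (by omega)
      simp at h1
      omega
    simp [hj, this]
  · have hne : Nonempty Ω := Fintype.card_pos_iff.1 (by rw [hΩ]; exact Nat.mul_pos hm hp.pos)
    obtain ⟨ω⟩ := hne
    exact hg ω (by rw [h, one_smul])

end CfsgLib.Derange
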